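import Cfsg.Agent.H744.EssRad
import Cfsg.Agent.H783.ChainStab
import Cfsg.Agent.H756.PU.Engine

/-!
# S5258, engine statement (G6): an essential subgroup containing an invariant TI subgroup `Q` is `Q` (helper659)
-/

set_option autoImplicit false

namespace Cfsg.Agent.H659.PU

open Cfsg Cfsg.FusionSystem Cfsg.Agent.H802 Cfsg.Agent.H756.PU

universe u

variable {Ω : Type u} [Group Ω]

/-- the automorphisms of `E` in `Γ` which act on `Q` as an element of `S` -/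
def actS (S : Subgroup Ω) {E Q : Subgroup Ω} (hQE : Q ≤ E) (Γ : Subgroup (MulAut E))
    (hSQ : S ≤ Subgroup.normalizer (Q : Set Ω)) : Subgroup Γ where
  carrier := {γ | ∃ g ∈ S, ∀ (x : Ω) (hx : x ∈ Q), (((γ : MulAut E) ⟨x, hQE hx⟩ : E) : Ω) = g * x * g⁻¹}
  one_mem' := ⟨1, S.one_mem, fun x hx => by simp⟩
  mul_mem' := by
    rintro γ δ ⟨g, hg, h1⟩ ⟨k, hk, h2⟩
    refine ⟨g * k, S.mul_mem hg hk, fun x hx => ?_⟩
    have hx' : k * x * k⁻¹ ∈ Q := (Subgroup.mem_normalizer_iff.1 (hSQ hk) x).1 hx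
    have e : (δ : MulAut E) ⟨x, hQE hx⟩ = ⟨k * x * k⁻¹, hQE hx'⟩ := Subtype.ext (h2 x hx)
    show (((γ : MulAut E) ((δ : MulAut E) ⟨x, hQE hx⟩) : E) : Ω) = _
    rw [e, h1 _ hx']
    group
  inv_mem' := by
    rintro γ ⟨g, hg, h1⟩
    refine ⟨g⁻¹, S.inv_mem hg, fun x hx => ?_⟩
    have hx' : g⁻¹ * x * g⁻¹⁻¹ ∈ Q := (Subgroup.mem_normalizer_iff.1 (hSQ (S.inv_mem hg)) x).1 hx
    have e : (γ : MulAut E) ⟨g⁻¹ * x * g⁻¹⁻¹, hQE hx'⟩ = ⟨x, hQE hx⟩ := Subtype.ext (by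
      rw [h1 _ hx']; group)
    have e2 : ((γ : MulAut E)⁻¹ ⟨x, hQE hx⟩ : E) = ⟨g⁻¹ * x * g⁻¹⁻¹, hQE hx'⟩ := by
      rw [← e]
      exact (γ : MulAut E).symm_apply_apply _
    show ((((γ : MulAut E)⁻¹ : MulAut E) ⟨x, hQE hx⟩ : E) : Ω) = _
    rw [e2]

/-- **(G6)** an essential subgroup containing an invariant TI-subgroup `Q` is `Q`. -/
theorem stOver : StOver.{u} := by
  intro Ω _ S _ p _ F Q E hS hF hE hQE hSQ hC hTI hInv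
  by_contra hne
  have hES : E ≤ S := hE.1.1
  have hQS : Q ≤ S := hQE.trans hES
  have hfE : Finite E := finite_of_le hES
  have hfQ : Finite Q := finite_of_le hQS
  obtain ⟨e, heE, heQ⟩ : ∃ e ∈ E, e ∉ Q := by
    by_contra hcon
    push Not at hcon
    exact hne (le_antisymm hcon hQE)
  -- restriction to `Q`
  have hres : ∀ γ ∈ F.autGroup E, ∃ δ ∈ F.autGroup Q,
      ∀ (x : Ω) (hx : x ∈ Q), ((δ ⟨x, hx⟩ : Q) : Ω) = ((γ ⟨x, hQE hx⟩ : E) : Ω) := by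
    intro γ hγ
    have h1 : ((E.subtype.comp γ.toMonoidHom).comp (Subgroup.inclusion hQE)) ∈ F.Hom Q :=
      restrict_mem ((mem_autGroup_iff F hES γ).1 hγ) hQE
    obtain ⟨δ, hδ, h2⟩ := exists_aut h1 (range_eq_of_mapsTo h1 (fun x => hInv.2 γ hγ ⟨x, hQE x.2⟩ x.2))
    exact ⟨δ, hδ, fun x hx => h2 ⟨x, hx⟩⟩
  -- conjugation by `e` on `Q`
  obtain ⟨κ, hκ⟩ := exists_conjAut (hSQ (hES heE))
  have hκS : κ ∈ autInducedBy S Q := conj_mem_autInducedBy (hES heE) hκ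
  have hκI : κ ∉ Inn Q := fun h => heQ (mem_of_conj_mem_inn hQS hC (hES heE) hκ h)
  -- every restriction normalizes `Aut_S(Q)`
  have hnorm : ∀ γ ∈ F.autGroup E, ∀ δ ∈ F.autGroup Q,
      (∀ (x : Ω) (hx : x ∈ Q), ((δ ⟨x, hx⟩ : Q) : Ω) = ((γ ⟨x, hQE hx⟩ : E) : Ω)) → NormAut S δ := by
    intro γ hγ δ hδ h
    refine hTI δ hδ κ hκS hκI ?_
    refine conj_mem_autInducedBy (g := ((γ ⟨e, heE⟩ : E) : Ω)) (hES (γ _).2) (fun x => ?_)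
    have e1 : ((δ (κ (δ⁻¹ x)) : Q) : Ω) = ((γ ⟨_, hQE (κ (δ⁻¹ x)).2⟩ : E) : Ω) := h _ (κ (δ⁻¹ x)).2
    have e2 : (⟨_, hQE (κ (δ⁻¹ x)).2⟩ : E) = ⟨e, heE⟩ * ⟨_, hQE (δ⁻¹ x).2⟩ * ⟨e, heE⟩⁻¹ :=
      Subtype.ext (hκ _)
    have e3 : ((γ ⟨_, hQE (δ⁻¹ x).2⟩ : E) : Ω) = x := by
      rw [← h _ (δ⁻¹ x).2]
      exact congrArg Subtype.val (δ.apply_symm_apply x)
    show ((δ (κ (δ⁻¹ x)) : Q) : Ω) = _
    rw [e1, e2, map_mul, map_mul, map_inv]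
    show ((γ ⟨e, heE⟩ : E) : Ω) * ((γ ⟨_, hQE (δ⁻¹ x).2⟩ : E) : Ω) * ((γ ⟨e, heE⟩ : E) : Ω)⁻¹ = _
    rw [e3]
  -- the normal `p`-subgroup
  set N := actS S hQE (F.autGroup E) hSQ with hNdef
  have hNn : N.Normal := by
    refine ⟨?_⟩
    rintro ν ⟨g, hg, hν⟩ γ
    obtain ⟨δ, hδ, h⟩ := hres γ γ.2
    obtain ⟨c, hc⟩ := exists_conjAut (hSQ hg)
    have h1 := hnorm γ γ.2 δ hδ h c (conj_mem_autInducedBy hg hc)
    obtain ⟨k, hk, h2⟩ := (mem_autInducedBy_iff S Q _).1 h1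
    refine ⟨k, hk, fun x hx => ?_⟩
    have e0 : ((γ : MulAut E)⁻¹ ⟨x, hQE hx⟩ : E) = ⟨_, hQE (δ⁻¹ ⟨x, hx⟩).2⟩ := by
      apply (γ : MulAut E).injective
      rw [MulAut.apply_inv_self]
      apply Subtype.ext
      rw [← h _ (δ⁻¹ ⟨x, hx⟩).2]
      exact (congrArg Subtype.val (δ.apply_symm_apply ⟨x, hx⟩)).symm
    have e1 : (ν : MulAut E) ⟨_, hQE (δ⁻¹ ⟨x, hx⟩).2⟩ = ⟨_, hQE (c (δ⁻¹ ⟨x, hx⟩)).2⟩ :=
      Subtype.ext ((hν _ (δ⁻¹ ⟨x, hx⟩).2).trans (hc _).symm)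
    show (((γ : MulAut E) ((ν : MulAut E) ((γ : MulAut E)⁻¹ ⟨x, hQE hx⟩)) : E) : Ω) = _
    rw [e0, e1, ← h _ (c (δ⁻¹ ⟨x, hx⟩)).2]
    exact h2 ⟨x, hx⟩
  have hEp : IsPGroup p E := hS.to_le hES
  have hNp : IsPGroup p N := by
    rintro ⟨ν, g, hg, hν⟩
    obtain ⟨k, hk⟩ := hS ⟨g, hg⟩
    have hk' : g ^ p ^ k = 1 := by simpa using congrArg Subtype.val hk
    have hpow : ∀ (n : ℕ) (x : Ω) (hx : x ∈ Q),
        (((((ν : MulAut E) ^ n : MulAut E)) ⟨x, hQE hx⟩ : E) : Ω) = g ^ n * x * (g ^ n)⁻¹ := by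
      intro n
      induction n with
      | zero => intro x hx; simp
      | succ n ih =>
        intro x hx
        have hx' : g * x * g⁻¹ ∈ Q := (Subgroup.mem_normalizer_iff.1 (hSQ hg) x).1 hx
        have e : (ν : MulAut E) ⟨x, hQE hx⟩ = ⟨g * x * g⁻¹, hQE hx'⟩ := Subtype.ext (hν x hx)
        rw [pow_succ, MulAut.mul_apply, e, ih _ hx', pow_succ]
        group
    have hid : ∀ (x : Ω) (hx : x ∈ Q),
        (((((ν : MulAut E) ^ p ^ k : MulAut E)) ⟨x, hQE hx⟩ : E) : Ω) = x := by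
      intro x hx
      rw [hpow _ x hx, hk']
      simp
    have hst : ((ν : MulAut E) ^ p ^ k) ∈ H783.chainStab (Q.subgroupOf E) := by
      refine ⟨fun x hx => Subtype.ext (hid x hx), fun y => ?_⟩
      set μ : MulAut E := (ν : MulAut E) ^ p ^ k with hμ
      show ((y⁻¹ * μ y : E) : Ω) ∈ Q
      apply hC
      refine ⟨S.mul_mem (S.inv_mem (hES y.2)) (hES (μ y).2), Subgroup.mem_centralizer_iff.2 fun x hx => ?_⟩
      have hx' : (y : Ω) * x * (y : Ω)⁻¹ ∈ Q := (Subgroup.mem_normalizer_iff.1 (hSQ (hES y.2)) x).1 hx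
      have e1 : μ ⟨x, hQE hx⟩ = ⟨x, hQE hx⟩ := Subtype.ext (hid x hx)
      have e2 : μ (y * ⟨x, hQE hx⟩ * y⁻¹) = y * ⟨x, hQE hx⟩ * y⁻¹ := Subtype.ext (hid _ hx')
      rw [map_mul, map_mul, map_inv, e1] at e2
      have e3 : ((μ y : E) : Ω) * x * ((μ y : E) : Ω)⁻¹ = (y : Ω) * x * (y : Ω)⁻¹ :=
        congrArg Subtype.val e2
      show x * ((y : Ω)⁻¹ * ((μ y : E) : Ω)) = (y : Ω)⁻¹ * ((μ y : E) : Ω) * x
      have e4 : ((μ y : E) : Ω) * x = (y : Ω) * x * (y : Ω)⁻¹ * ((μ y : E) : Ω) := by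
        rw [← e3]; group
      rw [mul_assoc (y : Ω)⁻¹, e4]
      group
    obtain ⟨m, hm⟩ := H783.isPGroup_chainStab hEp (Q.subgroupOf E) ⟨_, hst⟩
    have hm' : ((ν : MulAut E) ^ p ^ k) ^ p ^ m = 1 := by simpa using congrArg Subtype.val hm
    refine ⟨k + m, Subtype.ext (Subtype.ext ?_)⟩
    show (ν : MulAut E) ^ p ^ (k + m) = 1
    rw [pow_add, pow_mul]
    exact hm'
  -- conclusion
  have hrad := (H744.isRadical_of_isEssential hS hE).2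
  have hlt := card_lt_card_normalizerIn hS hES (ne_of_isEssential hS hF hE)
  obtain ⟨x, hxN, hxE⟩ : ∃ x ∈ normalizerIn S E, x ∉ E := by
    by_contra hcon
    push Not at hcon
    have h1 : normalizerIn S E ≤ E := hcon
    exact absurd (Subgroup.card_le_of_le h1) (not_le.2 hlt)
  obtain ⟨c, hc⟩ := exists_conjAut hxN.2
  have hcS : c ∈ autInducedBy S E := conj_mem_autInducedBy hxN.1 hc
  have hcΓ : c ∈ F.autGroup E := autInducedBy_le_autGroup F hES hcS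
  have hcN : (⟨c, hcΓ⟩ : F.autGroup E) ∈ N := ⟨x, hxN.1, fun y hy => hc ⟨y, hQE hy⟩⟩
  have hcp : (⟨c, hcΓ⟩ : F.autGroup E) ∈ pCore p (F.autGroup E) :=
    Cfsg.Agent.Lib.Cores.le_pCore hNn hNp hcN
  have hcI : c ∈ Inn E := by
    rw [← hrad]
    exact ⟨_, hcp, rfl⟩
  exact hxE (mem_of_conj_mem_inn hES (hE.1.2 E (isConj_refl F hES)) hxN.1 hc hcI)

end Cfsg.Agent.H659.PU
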